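import Mathlib
import Groth.Agent.S17984
import Groth.Agent.LC.GorLCI
import Groth.Agent.LC.GorFlat

/-!
# Gorenstein property of `ℤ[F,V]/(g, h (F - s), h (V - s))`
-/

set_option autoImplicit false

universe u

open MvPolynomial
open Groth.Agent.DefGlueLib (dot trivR dot_apply)

namespace Groth.Agent.Weil6

local notation "P" => MvPolynomial (Fin 2) ℤ

/-- A point where the ideal is generated by a prime element and an element outside it. -/
theorem gorenstein_atPrime_pair {A B : Type u} [CommRing A] [IsDomain A] [LocCoh.IsGorensteinRing A]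
    [CommRing B] (π : A →+* B) (hπ : Function.Surjective π) (q : Ideal B) [q.IsPrime] (a b : A)
    (hprime : (Ideal.span {a}).IsPrime) (ha0 : a ≠ 0) (haq : π a ∈ q) (hb : b ∉ Ideal.span {a})
    (hle : ∀ z ∈ ({a, b} : Set A), ∃ t, π t ∉ q ∧ t * z ∈ RingHom.ker π)
    (hge : ∃ t, π t ∉ q ∧ ∀ z ∈ RingHom.ker π, t * z ∈ Ideal.span {a, b}) :
    LocCoh.IsGorensteinLocalRing (Localization.AtPrime q) := by
  let Q := q.comap π
  let S := Localization.AtPrime Q
  haveI : IsDomain S := IsLocalization.isDomain_localization Q.primeCompl_le_nonZeroDivisors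
  set al := algebraMap A S a
  set bl := algebraMap A S b
  have hinj : Function.Injective (algebraMap A S) :=
    IsLocalization.injective S Q.primeCompl_le_nonZeroDivisors
  have hdisj : Disjoint (Q.primeCompl : Set A) (Ideal.span {a} : Set A) :=
    Set.disjoint_left.2 fun x hx hx' =>
      hx ((Ideal.span_singleton_le_iff_mem Q).2 haq hx')
  have hprime' : ((Ideal.span {a}).map (algebraMap A S)).IsPrime :=
    IsLocalization.isPrime_of_isPrime_disjoint Q.primeCompl S _ hprime hdisj
  rw [Ideal.map_span, Set.image_singleton] at hprime'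
  have hb' : bl ∉ Ideal.span {al} := by
    intro h
    refine hb ?_
    rw [← IsLocalization.comap_map_of_isPrime_disjoint Q.primeCompl S hprime hdisj,
      Ideal.mem_comap, Ideal.map_span, Set.image_singleton]
    exact h
  refine LC.gorenstein_atPrime_of_rel π hπ q Q.primeCompl (fun x hx => hx) S ![al, bl]
    (fun w hw => ?_) ?_
  · rw [dot_apply, Fin.sum_univ_two] at hw
    change w 0 * al + w 1 * bl = 0 at hw
    have h1 : w 1 * bl ∈ Ideal.span {al} := by
      rw [show w 1 * bl = -(w 0) * al by linear_combination hw]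
      exact Ideal.mul_mem_left _ _ (Ideal.mem_span_singleton_self al)
    obtain ⟨c, hc⟩ := Ideal.mem_span_singleton'.1 ((hprime'.mem_or_mem h1).resolve_right hb')
    have hal : al ≠ 0 := (map_ne_zero_iff _ hinj).2 ha0
    have h0 : w 0 = -(c * bl) := by
      have : (w 0 + c * bl) * al = 0 := by rw [← hc] at hw; linear_combination hw
      linear_combination (mul_eq_zero.1 this).resolve_right hal
    have hgen : (![al, bl] : Fin 2 → S) 0 • (Pi.single 1 1 : Fin 2 → S) -
        (![al, bl] : Fin 2 → S) 1 • Pi.single 0 1 ∈ trivR ![al, bl] :=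
      Submodule.subset_span ⟨(1, 0), rfl⟩
    convert Submodule.smul_mem _ c hgen using 1
    funext k
    fin_cases k
    · simp [h0, al, bl, Algebra.smul_def]
      exact (mul_neg _ _).symm
    · simp only [Fin.mk_one, Pi.smul_apply, Pi.sub_apply, smul_eq_mul]
      simp
      exact hc.symm
  · rw [Matrix.range_cons, Matrix.range_cons, Matrix.range_empty, Set.union_empty,
      Set.singleton_union]
    refine le_antisymm (Ideal.span_le.2 fun x hx => ?_) (Ideal.map_le_iff_le_comap.2 fun z hz => ?_)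
    · have key : ∀ y ∈ ({a, b} : Set A), algebraMap A S y ∈ (RingHom.ker π).map (algebraMap A S) := by
        intro y hy
        obtain ⟨t, ht, hty⟩ := hle y hy
        rw [IsLocalization.algebraMap_mem_map_algebraMap_iff Q.primeCompl]
        exact ⟨t, ht, hty⟩
      rcases hx with rfl | rfl
      · exact key a (Or.inl rfl)
      · exact key b (Or.inr rfl)
    · obtain ⟨t, ht, htz⟩ := hge
      rw [Ideal.mem_comap, show ({al, bl} : Set S) = algebraMap A S '' {a, b} by
        rw [Set.image_pair], ← Ideal.map_span, IsLocalization.algebraMap_mem_map_algebraMap_iff Q.primeCompl]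
      exact ⟨t, ht, htz z hz⟩

theorem gorenstein_ulift_P : LocCoh.IsGorensteinRing (ULift.{u} P) := by
  haveI : IsRegularRing (ULift.{u} ℤ) :=
    haveI : IsPrincipalIdealRing (ULift.{u} ℤ) :=
      IsPrincipalIdealRing.of_surjective (ULift.ringEquiv (R := ℤ)).symm.toRingHom
        (ULift.ringEquiv (R := ℤ)).symm.surjective
    haveI : IsDomain (ULift.{u} ℤ) := (ULift.ringEquiv (R := ℤ)).toMulEquiv.isDomain _
    inferInstance
  haveI := LC.gorensteinRing_of_isRegularRing (ULift.{u} ℤ)
  exact LC.gorensteinRing_of_ringEquiv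
    ((MvPolynomial.mapEquiv (Fin 2) (ULift.ringEquiv (R := ℤ))).trans
      (ULift.ringEquiv (R := P)).symm)
    (LC.gorensteinRing_mvPolynomial_fin (ULift.{u} ℤ) 2)

/-- `gorenstein_atPrime_pair` over `ℤ[F,V]`, across universes. -/
theorem gorenstein_atPrime_pair' {R : Type u} [CommRing R] (π : P →+* R) (hπ : Function.Surjective π)
    (q : Ideal R) [q.IsPrime] (a b : P) (hprime : (Ideal.span {a}).IsPrime) (ha0 : a ≠ 0)
    (haq : π a ∈ q) (hb : b ∉ Ideal.span {a})
    (hle : ∀ z ∈ ({a, b} : Set P), ∃ t, π t ∉ q ∧ t * z ∈ RingHom.ker π)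
    (hge : ∃ t, π t ∉ q ∧ ∀ z ∈ RingHom.ker π, t * z ∈ Ideal.span {a, b}) :
    LocCoh.IsGorensteinLocalRing (Localization.AtPrime q) := by
  haveI := gorenstein_ulift_P.{u}
  let e : ULift.{u} P ≃+* P := ULift.ringEquiv
  haveI : IsDomain (ULift.{u} P) := e.toMulEquiv.isDomain _
  have hspan : ∀ s : Set P, Ideal.span (e.symm '' s) = (Ideal.span s).comap e.toRingHom := by
    intro s
    rw [← Ideal.map_span]
    exact Ideal.map_symm e
  refine gorenstein_atPrime_pair (π.comp e.toRingHom) (hπ.comp e.surjective) q (e.symm a) (e.symm b)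
    ?_ (fun h => ha0 (congrArg e h)) haq ?_ ?_ ?_
  · rw [← Set.image_singleton, hspan]
    exact Ideal.IsPrime.comap _
  · rw [← Set.image_singleton, hspan]
    exact hb
  · rintro z (rfl | rfl)
    · obtain ⟨t, ht, htz⟩ := hle a (Or.inl rfl)
      exact ⟨e.symm t, ht, htz⟩
    · obtain ⟨t, ht, htz⟩ := hle b (Or.inr rfl)
      exact ⟨e.symm t, ht, htz⟩
  · obtain ⟨t, ht, htz⟩ := hge
    refine ⟨e.symm t, ht, fun z hz => ?_⟩
    rw [← Set.image_pair, hspan]
    exact htz (e z) hz

theorem prime_g {q : ℤ} (hq : q ≠ 0) : (Ideal.span {S17984.g q} : Ideal P).IsPrime := by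
  rw [show (Ideal.span {S17984.g q} : Ideal P) = RingHom.ker (S17984.laurent q) from
    le_antisymm (fun x hx => S17984.laurent_eq_zero_of_mem q hx)
      (fun x hx => S17984.mem_of_laurent hq hx)]
  exact RingHom.ker_isPrime _

theorem sub_eval_mem (a b : ℤ) (f : P) :
    f - C (MvPolynomial.eval ![a, b] f) ∈ Ideal.span ({X 0 - C a, X 1 - C b} : Set P) := by
  induction f using MvPolynomial.induction_on with
  | C c => simp
  | add f f' h h' =>
    rw [map_add, map_add, add_sub_add_comm]
    exact add_mem h h'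
  | mul_X f k h =>
    rw [map_mul, map_mul, eval_X]
    have e : f * X k - C (MvPolynomial.eval ![a, b] f) * C (![a, b] k) =
        (f - C (MvPolynomial.eval ![a, b] f)) * X k +
          C (MvPolynomial.eval ![a, b] f) * (X k - C (![a, b] k)) := by ring
    rw [e]
    refine add_mem (Ideal.mul_mem_right _ _ h) (Ideal.mul_mem_left _ _ (Ideal.subset_span ?_))
    fin_cases k <;> simp

/-- `X 0 ↦ s`. -/
noncomputable def lineMap (s : ℤ) : P →ₐ[ℤ] Polynomial ℤ := MvPolynomial.aeval ![Polynomial.C s, Polynomial.X]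

theorem prime_u (s : ℤ) : (Ideal.span {X 0 - C s} : Ideal P).IsPrime := by
  have h1 : ∀ f : P, f - Polynomial.aeval (X 1) (lineMap s f) ∈ Ideal.span {X 0 - C s} := by
    intro f
    induction f using MvPolynomial.induction_on with
    | C c => simp [lineMap]
    | add f f' h h' =>
      rw [map_add, map_add, add_sub_add_comm]
      exact add_mem h h'
    | mul_X f k h =>
      rw [map_mul, map_mul]
      fin_cases k
      · have e : (lineMap s) (X 0) = Polynomial.C s := by simp [lineMap]
        show f * X 0 - _ * Polynomial.aeval (X 1) ((lineMap s) (X 0)) ∈ _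
        rw [e, Polynomial.aeval_C, MvPolynomial.algebraMap_eq,
          show f * X 0 - Polynomial.aeval (X 1) (lineMap s f) * C s =
            (f - Polynomial.aeval (X 1) (lineMap s f)) * C s + f * (X 0 - C s) by ring]
        exact add_mem (Ideal.mul_mem_right _ _ h)
          (Ideal.mul_mem_left _ _ (Ideal.mem_span_singleton_self _))
      · have e : (lineMap s) (X 1) = Polynomial.X := by simp [lineMap]
        show f * X 1 - _ * Polynomial.aeval (X 1) ((lineMap s) (X 1)) ∈ _
        rw [e, Polynomial.aeval_X, ← sub_mul]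
        exact Ideal.mul_mem_right _ _ h
  rw [show (Ideal.span {X 0 - C s} : Ideal P) = RingHom.ker (lineMap s) from ?_]
  · exact RingHom.ker_isPrime _
  refine le_antisymm ((Ideal.span_singleton_le_iff_mem _).2 (by simp [lineMap])) fun f hf => ?_
  have h2 := h1 f
  rwa [RingHom.mem_ker.1 hf, map_zero, sub_zero] at h2

theorem v_not_mem_span_u (s : ℤ) : X 1 - C s ∉ (Ideal.span {X 0 - C s} : Ideal P) := fun h => by
  obtain ⟨c, hc⟩ := Ideal.mem_span_singleton'.1 h
  have := congrArg (lineMap s) hc
  simp [lineMap] at this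
  exact (Polynomial.X_sub_C_ne_zero s) this.symm

/-- The Gorenstein direction. -/
theorem gorenstein_glue {R : Type u} [CommRing R] (π : P →+* R) (hπ : Function.Surjective π)
    (p e : ℕ) [Fact p.Prime] (s : ℤ) (hs : s ^ 2 = (p : ℤ) ^ e) (h : P)
    (hh : S17984.laurent ((p : ℤ) ^ e) h ≠ 0)
    (hker : RingHom.ker π =
      Ideal.span {X 0 * X 1 - C ((p : ℤ) ^ e), h * (X 0 - C s), h * (X 1 - C s)})
    (hord : ¬ (p : ℤ) ∣ MvPolynomial.eval ![s, s] h) : LocCoh.IsGorensteinRing R := by
  haveI : IsNoetherianRing R := isNoetherianRing_of_surjective P R π hπ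
  set q := (p : ℤ) ^ e with hqdef
  have hq0 : q ≠ 0 := pow_ne_zero _ (by exact_mod_cast (Fact.out : p.Prime).ne_zero)
  set g : P := X 0 * X 1 - C q
  set u : P := X 0 - C s
  set v : P := X 1 - C s
  have hgI : g ∈ RingHom.ker π := hker ▸ Ideal.subset_span (by simp)
  have huI : h * u ∈ RingHom.ker π := hker ▸ Ideal.subset_span (by simp)
  have hvI : h * v ∈ RingHom.ker π := hker ▸ Ideal.subset_span (by simp)
  have hgen : ∀ (t : P) (J : Ideal P), t * g ∈ J → t * (h * u) ∈ J → t * (h * v) ∈ J →
      ∀ z ∈ RingHom.ker π, t * z ∈ J := by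
    intro t J h1 h2 h3 z hz
    have hle : RingHom.ker π ≤ Submodule.comap (LinearMap.mulLeft P t) J := by
      rw [hker, Ideal.span_le]
      rintro x (rfl | rfl | rfl)
      · exact h1
      · exact h2
      · exact h3
    exact hle hz
  have hg0 : g ≠ 0 := fun h0 => S17984.not_X_dvd_g hq0 ((show S17984.g q = 0 from h0) ▸ dvd_zero _)
  have hu0 : u ≠ 0 := fun h0 => by
    have := congrArg (MvPolynomial.eval ![s + 1, s]) h0
    simp [u] at this
  have hhg : h ∉ Ideal.span {g} := fun hm => hh (S17984.laurent_eq_zero_of_mem q hm)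
  have hug : u ∉ Ideal.span {g} := fun hm => by
    have h1 := S17984.laurent_eq_zero_of_mem q hm
    have h2 : u = S17984.inF (Polynomial.X - Polynomial.C s) := by simp [u, S17984.inF]
    rw [h2] at h1
    exact Polynomial.X_sub_C_ne_zero s (S17984.laurent_inF_eq_zero q _ h1)
  refine LC.gorensteinRing_of_atPrime fun 𝔮 _ => ?_
  have hmul : ∀ x y : P, x * y ∈ RingHom.ker π → π x ∉ 𝔮 → π y ∈ 𝔮 := by
    intro x y hxy hx
    refine (Ideal.IsPrime.mem_or_mem ‹𝔮.IsPrime› ?_).resolve_left hx
    rw [← map_mul, RingHom.mem_ker.1 hxy]; exact 𝔮.zero_mem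
  have h1q : π 1 ∉ 𝔮 := by rw [map_one]; exact (Ideal.ne_top_iff_one _).1 (Ideal.IsPrime.ne_top inferInstance)
  have hgq : π g ∈ 𝔮 := by rw [RingHom.mem_ker.1 hgI]; exact 𝔮.zero_mem
  have hguv : g ∈ Ideal.span ({u, v} : Set P) := by
    have h3 := sub_eval_mem s s g
    have h4 : MvPolynomial.eval ![s, s] g = 0 := by
      simp [g, ← pow_two, hs, hqdef]
    rwa [h4, map_zero, sub_zero] at h3
  by_cases hhq : π h ∉ 𝔮
  · -- off the first curve
    refine gorenstein_atPrime_pair' π hπ 𝔮 u v (prime_u s) hu0 (hmul h u huI hhq)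
      (v_not_mem_span_u s) ?_ ⟨1, h1q, ?_⟩
    · rintro z (rfl | rfl)
      · exact ⟨h, hhq, huI⟩
      · exact ⟨h, hhq, hvI⟩
    · refine hgen 1 _ ?_ ?_ ?_ <;> rw [one_mul]
      · exact hguv
      · exact Ideal.mul_mem_left _ _ (Ideal.subset_span (by simp))
      · exact Ideal.mul_mem_left _ _ (Ideal.subset_span (by simp))
  · rw [not_not] at hhq
    by_cases huv : π u ∈ 𝔮 ∧ π v ∈ 𝔮
    · obtain ⟨hu, hv⟩ := huv
      have hn : π (C (MvPolynomial.eval ![s, s] h)) ∈ 𝔮 := by
        have h1 := sub_eval_mem s s h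
        have h2 : Ideal.span ({u, v} : Set P) ≤ 𝔮.comap π := Ideal.span_le.2 (by
          rintro x (rfl | rfl)
          · exact hu
          · exact hv)
        have h3 := h2 h1
        rw [Ideal.mem_comap, map_sub] at h3
        simpa using 𝔮.sub_mem hhq h3
      have hsq : π (C s) ∉ 𝔮 := by
        intro hsm
        have hpe : π (C (p : ℤ)) ^ e ∈ 𝔮 := by
          rw [← map_pow, ← map_pow, ← hqdef, ← hs, map_pow, map_pow, pow_two]
          exact 𝔮.mul_mem_left _ hsm
        have hp := Ideal.IsPrime.mem_of_pow_mem ‹𝔮.IsPrime› e hpe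
        obtain ⟨x, y, hxy⟩ := ((Nat.prime_iff_prime_int.1 (Fact.out : p.Prime)).coprime_iff_not_dvd).2 hord
        refine h1q ?_
        rw [show (1 : P) = C x * C (p : ℤ) + C y * C (MvPolynomial.eval ![s, s] h) by
          rw [← map_mul, ← map_mul, ← map_add, hxy, map_one], map_add, map_mul, map_mul]
        exact 𝔮.add_mem (𝔮.mul_mem_left _ hp) (𝔮.mul_mem_left _ hn)
      have hF : π (X 0) ∉ 𝔮 := fun hF => hsq (by
        rw [show π (C s) = π (X 0) - π u by simp [u]]
        exact 𝔮.sub_mem hF hu)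
      refine gorenstein_atPrime_pair' π hπ 𝔮 g (h * u) (prime_g hq0) hg0 hgq ?_ ?_ ⟨X 0, hF, ?_⟩
      · exact fun hm => ((prime_g hq0).mem_or_mem hm).elim hhg hug
      · rintro z (rfl | rfl)
        · exact ⟨1, h1q, by rwa [one_mul]⟩
        · exact ⟨1, h1q, by rwa [one_mul]⟩
      · refine hgen (X 0) _ (Ideal.mul_mem_left _ _ (Ideal.subset_span (by simp)))
          (Ideal.mul_mem_left _ _ (Ideal.subset_span (by simp))) ?_
        have hsC : (C s : P) ^ 2 = C q := by rw [← map_pow, hs]
        have key : X 0 * (h * v) = h * g + (-C s) * (h * u) := by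
          simp only [g, u, v]
          linear_combination (-h) * hsC
        rw [key]
        exact add_mem (Ideal.mul_mem_left _ _ (Ideal.subset_span (by simp)))
          (Ideal.mul_mem_left _ _ (Ideal.subset_span (by simp)))
    · -- off the second curve
      have hh' : ∃ t, π t ∉ 𝔮 ∧ t * h ∈ RingHom.ker π := by
        rcases not_and_or.1 huv with hu | hv
        · exact ⟨u, hu, mul_comm h u ▸ huI⟩
        · exact ⟨v, hv, mul_comm h v ▸ hvI⟩
      refine gorenstein_atPrime_pair' π hπ 𝔮 g h (prime_g hq0) hg0 hgq hhg ?_ ⟨1, h1q, ?_⟩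
      · rintro z (rfl | rfl)
        · exact ⟨1, h1q, by rwa [one_mul]⟩
        · exact hh'
      · refine hgen 1 _ ?_ ?_ ?_ <;> rw [one_mul]
        · exact Ideal.subset_span (by simp)
        · exact Ideal.mul_mem_right _ _ (Ideal.subset_span (by simp))
        · exact Ideal.mul_mem_right _ _ (Ideal.subset_span (by simp))

end Groth.Agent.Weil6
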