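import Mathlib
import Groth.Agent.Weil6.Glue

/-!
# The glued order is not Gorenstein at the supersingular point
-/

set_option autoImplicit false

universe u

open MvPolynomial

namespace Groth.Agent.Weil6

local notation "P" => MvPolynomial (Fin 2) ℤ

/-- Restriction mod `p` to the `k`-th axis. -/
noncomputable def axis (p : ℕ) (k : Fin 2) : P →ₐ[ℤ] Polynomial (ZMod p) :=
  MvPolynomial.aeval fun j => if j = k then Polynomial.X else 0

/-- Evaluation mod `p` at the origin. -/
noncomputable def origin (p : ℕ) : P →ₐ[ℤ] ZMod p := MvPolynomial.aeval (0 : Fin 2 → ZMod p)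

theorem axis_eval_zero (p : ℕ) (k : Fin 2) (z : P) : (axis p k z).eval 0 = origin p z := by
  induction z using MvPolynomial.induction_on with
  | C c => simp [axis, origin]
  | add a b ha hb => rw [map_add, map_add, Polynomial.eval_add, ha, hb]
  | mul_X a j ha =>
    rw [map_mul, map_mul, Polynomial.eval_mul, ha]
    congr 1
    simp only [axis, origin, aeval_X, Pi.zero_apply]
    split_ifs <;> simp

theorem axis_sub_mem (p : ℕ) {k k' : Fin 2} (hkk : k' ≠ k) {z : P} (hz : axis p k z = 0) :
    z ∈ Ideal.span ({C (p : ℤ), X k'} : Set P) := by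
  set r : P →ₐ[ℤ] Polynomial ℤ := MvPolynomial.aeval fun j => if j = k then Polynomial.X else 0
  have h1 : ∀ f : P, f - Polynomial.aeval (X k) (r f) ∈ Ideal.span {X k'} := by
    intro f
    induction f using MvPolynomial.induction_on with
    | C c => simp [r]
    | add f f' h h' =>
      rw [map_add, map_add, add_sub_add_comm]
      exact add_mem h h'
    | mul_X f j h =>
      rw [map_mul, map_mul]
      by_cases hj : j = k
      · subst hj
        rw [show r (X j) = Polynomial.X by simp [r], Polynomial.aeval_X, ← sub_mul]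
        exact Ideal.mul_mem_right _ _ h
      · obtain rfl : j = k' := by omega
        rw [show r (X j) = 0 by simp [r, hj], map_zero, mul_zero, sub_zero]
        exact Ideal.mul_mem_left _ _ (Ideal.mem_span_singleton_self _)
  have h2 : ∀ f : P, (r f).map (Int.castRingHom (ZMod p)) = axis p k f := by
    intro f
    induction f using MvPolynomial.induction_on with
    | C c => simp [r, axis]
    | add f f' h h' => rw [map_add, map_add, Polynomial.map_add, h, h']
    | mul_X f j h =>
      rw [map_mul, map_mul, Polynomial.map_mul, h]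
      congr 1
      simp only [r, axis, aeval_X]
      split_ifs <;> simp
  have h3 : Polynomial.C (p : ℤ) ∣ r z := by
    rw [Polynomial.C_dvd_iff_dvd_coeff]
    intro i
    have := congrArg (fun f => Polynomial.coeff f i) ((h2 z).trans hz)
    rw [← ZMod.intCast_zmod_eq_zero_iff_dvd]
    simpa using this
  obtain ⟨c, hc⟩ := h3
  have h4 := h1 z
  rw [hc, map_mul, Polynomial.aeval_C, MvPolynomial.algebraMap_eq] at h4
  have h5 : z = (z - C (p : ℤ) * Polynomial.aeval (X k) c) + C (p : ℤ) * Polynomial.aeval (X k) c := by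
    ring
  rw [h5]
  exact add_mem (Ideal.span_mono (by simp) h4) (Ideal.mul_mem_right _ _ (Ideal.subset_span (by simp)))

theorem axis_inF (p : ℕ) (k : Fin 2) (α : Polynomial ℤ) :
    axis p k (Polynomial.aeval (X k) α) = α.map (Int.castRingHom (ZMod p)) := by
  rw [← Polynomial.aeval_algHom_apply]
  rw [show axis p k (X k) = Polynomial.X by simp [axis]]
  induction α using Polynomial.induction_on' with
  | add a b ha hb => rw [map_add, Polynomial.map_add, ha, hb]
  | monomial n c => simp [← Polynomial.C_mul_X_pow_eq_monomial]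

/-- The non-Gorenstein direction. -/
theorem not_gorenstein_glue {R : Type u} [CommRing R] [LocCoh.IsGorensteinRing R] (π : P →+* R)
    (hπ : Function.Surjective π) (p e : ℕ) [Fact p.Prime] (he : 0 < e) (s : ℤ) (hps : (p : ℤ) ∣ s)
    (h : P) (hker : RingHom.ker π =
      Ideal.span {X 0 * X 1 - C ((p : ℤ) ^ e), h * (X 0 - C s), h * (X 1 - C s)})
    (hreg : IsSMulRegular R (p : R))
    (hint : ∀ j, ∃ m : Polynomial ℤ, m.Monic ∧ Polynomial.aeval (X j) m ∈ RingHom.ker π)
    (hh : origin p h = 0) : False := by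
  haveI : Fact (1 < p) := ⟨(Fact.out : p.Prime).one_lt⟩
  set g : P := X 0 * X 1 - C ((p : ℤ) ^ e) with hgdef
  obtain ⟨s', rfl⟩ := hps
  -- the quotient by `p`
  let C0 := R ⧸ Ideal.span {(p : R)}
  haveI : LocCoh.IsGorensteinRing C0 :=
    LC.gorensteinRing_of_surjective (Ideal.Quotient.mk _) Ideal.Quotient.mk_surjective hreg Ideal.mk_ker
  let πC : P →+* C0 := (Ideal.Quotient.mk (Ideal.span {(p : R)})).comp π
  have hπC : Function.Surjective πC := Ideal.Quotient.mk_surjective.comp hπ
  have hpC : πC (C (p : ℤ)) = 0 := by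
    show Ideal.Quotient.mk (Ideal.span {(p : R)}) (π (MvPolynomial.C (p : ℤ))) = 0
    rw [show π (MvPolynomial.C (p : ℤ) : P) = (p : R) by simp]
    exact Ideal.Quotient.eq_zero_iff_mem.2 (Ideal.subset_span rfl)
  have hI : ∀ z ∈ RingHom.ker π, πC z = 0 := fun z hz => by
    simp [πC, RingHom.mem_ker.1 hz]
  have hFV : πC (X 0 * X 1) = 0 := by
    have h1 := hI g (hker ▸ Ideal.subset_span (by simp))
    rw [hgdef, map_sub, sub_eq_zero] at h1
    rw [h1, ← Nat.succ_pred_eq_of_pos he, pow_succ, map_mul, map_mul, hpC, mul_zero]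
  have hhX : ∀ j, πC (h * X j) = 0 := by
    intro j
    have h1 : h * (X j - C ((p : ℤ) * s')) ∈ RingHom.ker π := by
      rw [hker]
      fin_cases j <;> exact Ideal.subset_span (by simp)
    have h2 := hI _ h1
    rwa [mul_sub, map_sub, map_mul πC h (C _), map_mul (C : ℤ →+* P) (p : ℤ), map_mul πC (C (p : ℤ)), hpC, zero_mul,
      mul_zero, sub_zero] at h2
  -- images on the axes
  have hIax : ∀ (k : Fin 2) (z : P), z ∈ RingHom.ker π →
      axis p k z ∈ Ideal.span {axis p k h * Polynomial.X} := by
    intro k z hz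
    have hle : RingHom.ker π ≤ (Ideal.span {axis p k h * Polynomial.X}).comap (axis p k) := by
      rw [hker, Ideal.span_le]
      have hp0 : (p : Polynomial (ZMod p)) = 0 := CharP.cast_eq_zero _ p
      rintro x (rfl | rfl | rfl)
      · rw [SetLike.mem_coe, Ideal.mem_comap, show axis p k g = 0 by
          fin_cases k <;> simp [hgdef, axis, hp0, zero_pow he.ne']]
        exact zero_mem _
      all_goals
        rw [SetLike.mem_coe, Ideal.mem_comap]
        fin_cases k <;> simp [axis, hp0, Ideal.mem_span_singleton]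
    exact hle hz
  have hJax : ∀ (k : Fin 2) (z : P), πC z = 0 →
      axis p k z ∈ Ideal.span {axis p k h * Polynomial.X} := by
    intro k z hz
    obtain ⟨r, hr⟩ := Ideal.mem_span_singleton'.1
      ((Ideal.Quotient.eq_zero_iff_mem).1 (show Ideal.Quotient.mk (Ideal.span {(p : R)}) (π z) = 0 from hz))
    obtain ⟨y, rfl⟩ := hπ r
    have h1 : z - y * C (p : ℤ) ∈ RingHom.ker π := by
      rw [RingHom.mem_ker, map_sub, map_mul, ← hr]
      simp
    have h2 := hIax k _ h1
    rwa [map_sub, map_mul, show axis p k (C (p : ℤ)) = 0 by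
      simp [axis, CharP.cast_eq_zero], mul_zero, sub_zero] at h2
  have ha0 : ∀ k, axis p k h ≠ 0 := by
    intro k h0
    obtain ⟨m, hm, hm'⟩ := hint k
    have h1 := hIax k _ hm'
    rw [h0, zero_mul, Ideal.mem_span_singleton, zero_dvd_iff, axis_inF] at h1
    exact (hm.map _).ne_zero h1
  -- the point
  set Q0 : Ideal P := RingHom.ker (origin p)
  have hsurj : Function.Surjective (origin p) := fun z => by
    obtain ⟨c, rfl⟩ := ZMod.intCast_surjective z
    exact ⟨C c, by simp [origin]⟩
  haveI hQ0 : Q0.IsPrime := RingHom.ker_isPrime _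
  have hJQ : RingHom.ker πC ≤ Q0 := fun z hz => by
    obtain ⟨c, hc⟩ := Ideal.mem_span_singleton'.1 (hJax 0 z hz)
    rw [RingHom.mem_ker, ← axis_eval_zero p 0, ← hc]
    simp
  haveI hq : (Q0.map πC).IsPrime := Ideal.map_isPrime_of_surjective hπC hJQ
  have hcomap : (Q0.map πC).comap πC = Q0 := by
    rw [Ideal.comap_map_of_surjective _ hπC]
    exact sup_eq_left.2 hJQ
  haveI := LocCoh.IsGorensteinRing.isGorensteinLocalRing_localization (A := C0) (Q0.map πC)
  haveI : IsNoetherianRing (Localization.AtPrime (Q0.map πC)) := LC.isNoetherianRing_atPrime _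
  set θ : P →+* Localization.AtPrime (Q0.map πC) := (algebraMap C0 _).comp πC with hθdef
  have hθ : ∀ z, θ z = 0 → ∃ t, origin p t ≠ 0 ∧ πC (t * z) = 0 := by
    intro z hz
    obtain ⟨⟨m, hm⟩, hm'⟩ := (IsLocalization.map_eq_zero_iff (Q0.map πC).primeCompl _ _).1 hz
    obtain ⟨t, rfl⟩ := hπC m
    exact ⟨t, fun ht => hm (Ideal.mem_map_of_mem _ ht), by rw [map_mul]; exact hm'⟩
  have hunit : ∀ t, origin p t ≠ 0 → IsUnit (θ t) := by
    intro t ht
    refine IsLocalization.map_units (Localization.AtPrime (Q0.map πC))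
      (⟨πC t, fun hm => ht ?_⟩ : (Q0.map πC).primeCompl)
    exact (hcomap ▸ (Ideal.mem_comap.2 hm) : t ∈ Q0)
  have hmem : ∀ r ∈ IsLocalRing.maximalIdeal (Localization.AtPrime (Q0.map πC)),
      r ∈ Ideal.span ({θ (X 0), θ (X 1)} : Set _) := by
    intro r hr
    rw [← Localization.AtPrime.map_eq_maximalIdeal, Ideal.map_map] at hr
    have hle : Q0.map θ ≤ Ideal.span ({θ (X 0), θ (X 1)} : Set _) := by
      rw [Ideal.map_le_iff_le_comap]
      intro z hz
      have h1 := sub_eval_mem 0 0 z
      have h2 : (p : ℤ) ∣ MvPolynomial.eval ![0, 0] z := by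
        rw [← ZMod.intCast_zmod_eq_zero_iff_dvd]
        have h3 : ∀ y : P, ((MvPolynomial.eval ![0, 0] y : ℤ) : ZMod p) = origin p y := by
          intro y
          induction y using MvPolynomial.induction_on with
          | C c => simp [origin]
          | add a b ha hb => rw [map_add, map_add, Int.cast_add, ha, hb]
          | mul_X a j ha =>
            rw [map_mul, map_mul, Int.cast_mul, ha]
            congr 1
            fin_cases j <;> simp [origin]
        rw [h3]; exact hz
      obtain ⟨c, hc⟩ := h2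
      have h4 : θ (C (MvPolynomial.eval ![0, 0] z)) = 0 := by
        rw [hc, map_mul, map_mul, show θ (C (p : ℤ)) = 0 by simp only [hθdef, RingHom.comp_apply, hpC, map_zero],
          zero_mul]
      have h5 : θ (z - C (MvPolynomial.eval ![0, 0] z)) ∈
          Ideal.span ({θ (X 0), θ (X 1)} : Set _) := by
        have := Ideal.mem_map_of_mem θ h1
        rw [Ideal.map_span, Set.image_pair] at this
        simpa using this
      rwa [map_sub, h4, sub_zero] at h5
    exact hle hr
  -- socle elements on the axes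
  have hsoc : ∀ k k' : Fin 2, k' ≠ k → ∃ i : ℕ, 0 < i ∧
      (∀ r ∈ IsLocalRing.maximalIdeal (Localization.AtPrime (Q0.map πC)), r * θ (X k ^ i) = 0) ∧
      (∀ t, origin p t ≠ 0 → axis p k (t * X k ^ i) ∉ Ideal.span {axis p k h * Polynomial.X}) := by
    intro k k' hkk
    obtain ⟨a', ha', hndvd⟩ :=
      Polynomial.exists_eq_pow_rootMultiplicity_mul_and_not_dvd (axis p k h) (ha0 k) 0
    rw [map_zero, sub_zero] at ha' hndvd
    set i := (axis p k h).rootMultiplicity 0
    have hi : 0 < i := (Polynomial.rootMultiplicity_pos (ha0 k)).2 (by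
      rw [Polynomial.IsRoot.def, axis_eval_zero, hh])
    obtain ⟨α, hα⟩ := Polynomial.map_surjective (Int.castRingHom (ZMod p)) ZMod.intCast_surjective a'
    set t0 : P := Polynomial.aeval (X k) α
    have ht0 : origin p t0 ≠ 0 := by
      rw [← axis_eval_zero p k, axis_inF, hα]
      intro h0
      exact hndvd (by simpa using Polynomial.dvd_iff_isRoot.2 (show a'.IsRoot 0 from h0))
    have hz : h - X k ^ i * t0 ∈ Ideal.span ({C (p : ℤ), X k'} : Set P) := by
      refine axis_sub_mem p hkk ?_
      rw [map_sub, map_mul, map_pow, axis_inF, hα, show axis p k (X k) = Polynomial.X by simp [axis], ← ha',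
        sub_self]
    have hkk' : πC (X k' * X k) = 0 := by
      fin_cases k <;> fin_cases k' <;> first | exact absurd rfl hkk | skip
      · show πC (X 1 * X 0) = 0; rw [mul_comm]; exact hFV
      · exact hFV
    have h1 : πC (X k * (X k ^ i * t0)) = 0 := by
      obtain ⟨c, d, hcd⟩ := Ideal.mem_span_pair.1 hz
      rw [show X k * (X k ^ i * t0) = h * X k - (X k * c * C (p : ℤ) + d * (X k' * X k)) by
        linear_combination X k * hcd, map_sub, map_add, map_mul πC (X k * c), map_mul πC d, hhX, hpC, hkk']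
      simp
    have hann : ∀ j, θ (X j) * θ (X k ^ i) = 0 := by
      intro j
      by_cases hj : j = k
      · subst hj
        refine (hunit t0 ht0).mul_left_eq_zero.1 ?_
        rw [← map_mul, ← map_mul, mul_assoc]
        simp only [hθdef, RingHom.comp_apply, h1, map_zero]
      · obtain rfl : j = k' := by omega
        obtain ⟨i', hi'⟩ := Nat.exists_eq_succ_of_ne_zero hi.ne'
        have h0 : θ (X j) * θ (X k) = 0 := by
          rw [← map_mul]
          show algebraMap C0 _ (πC (X j * X k)) = 0
          rw [hkk', map_zero]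
        rw [map_pow, hi', pow_succ', ← mul_assoc, h0, zero_mul]
    refine ⟨i, hi, fun r hr => ?_, fun t ht hm => ?_⟩
    · obtain ⟨c, d, rfl⟩ := Ideal.mem_span_pair.1 (hmem r hr)
      rw [add_mul, mul_assoc, mul_assoc, hann, hann]; simp
    · obtain ⟨c, hc⟩ := Ideal.mem_span_singleton'.1 hm
      rw [map_mul, map_pow, show axis p k (X k) = Polynomial.X by simp [axis], ha'] at hc
      have hc' : axis p k t = c * a' * Polynomial.X := by
        refine mul_right_cancel₀ (pow_ne_zero i Polynomial.X_ne_zero) ?_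
        rw [← hc]; ring
      refine ht ?_
      rw [← axis_eval_zero p k, hc']
      simp
  obtain ⟨i, hi, hi1, hi2⟩ := hsoc 0 1 (by decide)
  obtain ⟨j, -, hj1, hj2⟩ := hsoc 1 0 (by decide)
  have hne : θ (X 0 ^ i) ≠ 0 := fun h0 => by
    obtain ⟨t, ht, ht'⟩ := hθ _ h0
    exact hi2 t ht (hJax 0 _ ht')
  obtain ⟨-, huniq⟩ := LC.socle_of_gorenstein hne hi1
  obtain ⟨c, hc⟩ := huniq _ hj1
  obtain ⟨c0, ⟨m, hm⟩, rfl⟩ := IsLocalization.exists_mk'_eq (Q0.map πC).primeCompl c
  obtain ⟨c1, rfl⟩ := hπC c0
  obtain ⟨t1, rfl⟩ := hπC m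
  have ht1 : origin p t1 ≠ 0 := fun h0 => hm (Ideal.mem_map_of_mem _ h0)
  have h1 : θ (t1 * X 1 ^ j - c1 * X 0 ^ i) = 0 := by
    rw [map_sub, map_mul, map_mul, hc, sub_eq_zero, ← mul_assoc]
    congr 1
    simp only [hθdef, RingHom.comp_apply]
    exact (mul_comm _ _).trans (IsLocalization.mk'_spec _ (πC c1) ⟨πC t1, hm⟩)
  obtain ⟨t, ht, ht'⟩ := hθ _ h1
  refine hj2 (t * t1) (by rw [map_mul]; exact mul_ne_zero ht ht1) ?_
  have h2 := hJax 1 _ ht'
  have h3 : axis p 1 (X 0 ^ i) = 0 := by simp [axis, zero_pow hi.ne']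
  rwa [show t * t1 * X 1 ^ j = t * (t1 * X 1 ^ j - c1 * X 0 ^ i) + t * c1 * X 0 ^ i by ring,
    map_add, map_mul (axis p 1) (t * c1), h3, mul_zero, add_zero]

end Groth.Agent.Weil6
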